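import Mathlib

/-!
# Associative structures lift along square-zero extensions (separable case)

We work with structure constants on `Fin m → B`.
-/

set_option autoImplicit false

open Finset

namespace Groth.Agent.AzLift21

variable {B : Type*} [CommRing B] {m : ℕ}

/-- The bilinear multiplication with structure constants `c`. -/
def mult (c : Fin m → Fin m → Fin m → B) : (Fin m → B) →ₗ[B] (Fin m → B) →ₗ[B] (Fin m → B) :=
  LinearMap.mk₂ B (fun x y k => ∑ i, ∑ j, x i * y j * c i j k)
    (fun x x' y => funext fun k => by simp [add_mul, Finset.sum_add_distrib])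
    (fun r x y => funext fun k => by simp [Finset.mul_sum, mul_assoc])
    (fun x y y' => funext fun k => by simp [mul_add, add_mul, Finset.sum_add_distrib])
    (fun r x y => funext fun k => by simp [Finset.mul_sum, mul_left_comm, mul_assoc])

theorem mult_single (c : Fin m → Fin m → Fin m → B) (i j : Fin m) :
    mult c (Pi.single i 1) (Pi.single j 1) = c i j := by
  funext k
  simp [mult, Pi.single_apply]

theorem map_mult {B' : Type*} [CommRing B'] (φ : B →+* B') (c : Fin m → Fin m → Fin m → B)
    (x y : Fin m → B) :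
    φ ∘ mult c x y = mult (fun i j k => φ (c i j k)) (φ ∘ x) (φ ∘ y) := by
  funext k
  simp [mult]

/-- Reconstructing a bilinear map from its structure constants. -/
theorem eq_mult (f : (Fin m → B) →ₗ[B] (Fin m → B) →ₗ[B] (Fin m → B)) :
    f = mult (fun i j => f (Pi.single i 1) (Pi.single j 1)) := by
  refine LinearMap.pi_ext' fun i => LinearMap.ext_ring (LinearMap.pi_ext' fun j => LinearMap.ext_ring ?_)
  simp [mult_single]

variable (I : Ideal B)

/-- Vectors with coordinates in `I`. -/
def small : Submodule B (Fin m → B) where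
  carrier := {x | ∀ k, x k ∈ I}
  add_mem' hx hy k := I.add_mem (hx k) (hy k)
  zero_mem' _ := I.zero_mem
  smul_mem' r _ hx k := I.mul_mem_left r (hx k)

theorem mem_small {x : Fin m → B} : x ∈ small I ↔ ∀ k, x k ∈ I := Iff.rfl

theorem sum_smul_single (x : Fin m → B) : ∑ k, x k • Pi.single k (1 : B) = x := by
  funext j
  simp [Finset.sum_apply, Pi.single_apply]

/-- A linear map with small values kills small vectors. -/
theorem apply_small_eq_zero (hI : I * I = ⊥) (L : (Fin m → B) →ₗ[B] (Fin m → B))
    (hL : ∀ x, L x ∈ small I) {x : Fin m → B} (hx : x ∈ small I) : L x = 0 := by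
  rw [← sum_smul_single x, map_sum]
  refine Finset.sum_eq_zero fun k _ => funext fun i => ?_
  have h : x k * L (Pi.single k 1) i ∈ I * I := Ideal.mul_mem_mul (hx k) (hL _ i)
  rw [hI, Ideal.mem_bot] at h
  simpa using h

/-- A linear map sends small vectors to small vectors. -/
theorem map_small (L : (Fin m → B) →ₗ[B] (Fin m → B)) {x : Fin m → B} (hx : x ∈ small I) :
    L x ∈ small I := by
  rw [← sum_smul_single x, map_sum]
  refine sum_mem fun k _ i => ?_
  simpa using I.mul_mem_right _ (hx k)

theorem eq_of_small (hI : I * I = ⊥) (L : (Fin m → B) →ₗ[B] (Fin m → B))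
    (hL : ∀ x, L x - x ∈ small I) {x : Fin m → B} (hx : x ∈ small I) : L x = x :=
  sub_eq_zero.mp (apply_small_eq_zero I hI (L - LinearMap.id) hL hx)

section

variable (μ : (Fin m → B) →ₗ[B] (Fin m → B) →ₗ[B] (Fin m → B)) (E : Fin m → Fin m → B)
  (u : Fin m → B)

/-- The associator. -/
def assocr (x y z : Fin m → B) : Fin m → B := μ (μ x y) z - μ x (μ y z)

/-- The evaluation of a matrix on a bilinear map. -/
def evalMat (g : (Fin m → B) →ₗ[B] (Fin m → B) →ₗ[B] (Fin m → B)) (E : Fin m → Fin m → B) :
    Fin m → B :=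
  ∑ j, ∑ k, E j k • g (Pi.single j 1) (Pi.single k 1)

/-- Left multiplication on matrices. -/
def lmat (x : Fin m → B) (E : Fin m → Fin m → B) : Fin m → Fin m → B :=
  fun p q => ∑ j, E j q * μ x (Pi.single j 1) p

/-- Right multiplication on matrices. -/
def rmat (x : Fin m → B) (E : Fin m → Fin m → B) : Fin m → Fin m → B :=
  fun p q => ∑ k, E p k * μ (Pi.single k 1) x q

theorem evalMat_lmat (g : (Fin m → B) →ₗ[B] (Fin m → B) →ₗ[B] (Fin m → B)) (x : Fin m → B) :
    evalMat g (lmat μ x E) = ∑ j, ∑ k, E j k • g (μ x (Pi.single j 1)) (Pi.single k 1) := by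
  have h : ∀ j k, g (μ x (Pi.single j 1)) (Pi.single k 1) =
      ∑ p, μ x (Pi.single j 1) p • g (Pi.single p 1) (Pi.single k 1) := fun j k => by
    conv_lhs => rw [← sum_smul_single (μ x (Pi.single j 1))]
    simp [map_sum, LinearMap.sum_apply]
  simp only [evalMat, lmat, h, Finset.smul_sum, smul_smul, Finset.sum_smul]
  rw [Finset.sum_comm]
  conv_lhs => enter [2, k]; rw [Finset.sum_comm]
  rw [Finset.sum_comm]

theorem evalMat_rmat (g : (Fin m → B) →ₗ[B] (Fin m → B) →ₗ[B] (Fin m → B)) (x : Fin m → B) :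
    evalMat g (rmat μ x E) = ∑ j, ∑ k, E j k • g (Pi.single j 1) (μ (Pi.single k 1) x) := by
  have h : ∀ j k, g (Pi.single j 1) (μ (Pi.single k 1) x) =
      ∑ q, μ (Pi.single k 1) x q • g (Pi.single j 1) (Pi.single q 1) := fun j k => by
    conv_lhs => rw [← sum_smul_single (μ (Pi.single k 1) x)]
    simp [map_sum]
  simp only [evalMat, rmat, h, Finset.smul_sum, smul_smul, Finset.sum_smul]
  refine Finset.sum_congr rfl fun j _ => ?_
  rw [Finset.sum_comm]

theorem evalMat_sub (g : (Fin m → B) →ₗ[B] (Fin m → B) →ₗ[B] (Fin m → B))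
    (E E' : Fin m → Fin m → B) : evalMat g (E - E') = evalMat g E - evalMat g E' := by
  simp [evalMat, sub_smul, Finset.sum_sub_distrib]

/-- A matrix with entries in `I` evaluates to zero on a bilinear map with small values. -/
theorem evalMat_eq_zero (hI : I * I = ⊥) (g : (Fin m → B) →ₗ[B] (Fin m → B) →ₗ[B] (Fin m → B))
    (hg : ∀ x y, g x y ∈ small I) (E : Fin m → Fin m → B) (hE : ∀ j k, E j k ∈ I) :
    evalMat g E = 0 := by
  refine Finset.sum_eq_zero fun j _ => Finset.sum_eq_zero fun k _ => funext fun i => ?_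
  have h : E j k * g (Pi.single j 1) (Pi.single k 1) i ∈ I * I := Ideal.mul_mem_mul (hE j k) (hg _ _ i)
  rw [hI, Ideal.mem_bot] at h
  simpa using h

theorem assocr_add_left (a a' b c : Fin m → B) :
    assocr μ (a + a') b c = assocr μ a b c + assocr μ a' b c := by
  simp [assocr]; abel

theorem assocr_add_mid (a b b' c : Fin m → B) :
    assocr μ a (b + b') c = assocr μ a b c + assocr μ a b' c := by
  simp [assocr]; abel

theorem assocr_add_right (a b c c' : Fin m → B) :
    assocr μ a b (c + c') = assocr μ a b c + assocr μ a b c' := by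
  simp [assocr]; abel

/-- The correction. -/
def corr : (Fin m → B) →ₗ[B] (Fin m → B) →ₗ[B] (Fin m → B) :=
  LinearMap.mk₂ B
    (fun y z => ∑ j, ∑ k, E j k • μ (Pi.single j 1) (assocr μ (Pi.single k 1) y z))
    (fun y y' z => by simp [assocr_add_mid, Finset.sum_add_distrib])
    (fun r y z => by simp [assocr, Finset.smul_sum, smul_sub, smul_comm r])
    (fun y z z' => by simp [assocr_add_right, Finset.sum_add_distrib])
    (fun r y z => by simp [assocr, Finset.smul_sum, smul_sub, smul_comm r])

theorem corr_apply (y z : Fin m → B) :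
    corr μ E y z = ∑ j, ∑ k, E j k • μ (Pi.single j 1) (assocr μ (Pi.single k 1) y z) := rfl

variable {μ E u}

theorem corr_small (hassoc : ∀ x y z, assocr μ x y z ∈ small I) (y z : Fin m → B) :
    corr μ E y z ∈ small I := by
  rw [corr_apply]
  exact sum_mem fun j _ => sum_mem fun k _ =>
    Submodule.smul_mem _ _ (map_small I _ (hassoc _ _ _))

theorem mult_small_small (hI : I * I = ⊥) (f : (Fin m → B) →ₗ[B] (Fin m → B) →ₗ[B] (Fin m → B))
    {x y : Fin m → B} (hx : x ∈ small I) (hy : y ∈ small I) : f x y = 0 := by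
  rw [← sum_smul_single y, map_sum]
  refine Finset.sum_eq_zero fun k _ => funext fun i => ?_
  have hmem : f x (Pi.single k 1) ∈ small I := map_small I (f.flip (Pi.single k 1)) hx
  have h : y k * f x (Pi.single k 1) i ∈ I * I := Ideal.mul_mem_mul (hy k) (hmem i)
  rw [hI, Ideal.mem_bot] at h
  simpa using h

/-- An associative-up-to-`I` multiplication with a separability element can be corrected to an
associative one. -/
theorem exists_assoc (hI : I * I = ⊥) (hassoc : ∀ x y z, assocr μ x y z ∈ small I)
    (hu : ∀ x, μ u x - x ∈ small I) (hcomm : ∀ x p q, (lmat μ x E - rmat μ x E) p q ∈ I)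
    (hm : evalMat μ E - u ∈ small I) :
    ∃ μ' : (Fin m → B) →ₗ[B] (Fin m → B) →ₗ[B] (Fin m → B),
      (∀ x y, μ' x y - μ x y ∈ small I) ∧ ∀ x y z, μ' (μ' x y) z = μ' x (μ' y z) := by
  refine ⟨μ + corr μ E, fun x y => ?_, fun x y z => ?_⟩
  · simpa using corr_small I hassoc x y
  -- products with small vectors associate exactly
  have hR : ∀ a b {v : Fin m → B}, v ∈ small I → μ (μ a b) v = μ a (μ b v) := fun a b v hv =>
    sub_eq_zero.mp (apply_small_eq_zero I hI (μ (μ a b) - (μ a).comp (μ b)) (fun x => hassoc a b x) hv)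
  have hM : ∀ a b {v : Fin m → B}, v ∈ small I → μ (μ a v) b = μ a (μ v b) := fun a b v hv => by
    refine sub_eq_zero.mp (apply_small_eq_zero I hI
      ((μ.flip b).comp (μ a) - (μ a).comp (μ.flip b)) (fun x => ?_) hv)
    exact hassoc a x b
  -- the cocycle identity
  have hcoc : ∀ a b c d, μ a (assocr μ b c d) + assocr μ a (μ b c) d + μ (assocr μ a b c) d =
      assocr μ (μ a b) c d + assocr μ a b (μ c d) := fun a b c d => by
    simp only [assocr, map_sub, LinearMap.sub_apply]
    abel
  let g : (Fin m → B) → (Fin m → B) → ((Fin m → B) →ₗ[B] (Fin m → B) →ₗ[B] (Fin m → B)) :=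
    fun y z => LinearMap.mk₂ B (fun a b => μ a (assocr μ b y z))
      (fun a a' b => by simp) (fun r a b => by simp)
      (fun a b b' => by simp [assocr_add_left])
      (fun r a b => by simp [assocr, smul_sub])
  have hgsmall : ∀ y z a b, g y z a b ∈ small I := fun y z a b =>
    map_small I (μ a) (hassoc b y z)
  have hgE : ∀ y z, evalMat (g y z) E = corr μ E y z := fun y z => rfl
  have hEm : ∀ v ∈ small I, μ (evalMat μ E) v = v := fun v hv => by
    refine eq_of_small I hI (μ (evalMat μ E)) (fun x => ?_) hv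
    have h1 : μ (evalMat μ E) x - x = μ (evalMat μ E - u) x + (μ u x - x) := by
      rw [map_sub, LinearMap.sub_apply]; abel
    rw [h1]
    exact add_mem (map_small I (μ.flip x) hm) (hu x)
  have hd : μ x (corr μ E y z) - corr μ E (μ x y) z + corr μ E x (μ y z) - μ (corr μ E x y) z =
      assocr μ x y z := by
    have h1 : μ x (corr μ E y z) =
        ∑ j, ∑ k, E j k • μ (Pi.single j 1) (assocr μ (μ (Pi.single k 1) x) y z) := by
      have e1 : μ x (corr μ E y z) = evalMat (g y z) (lmat μ x E) := by
        rw [evalMat_lmat, corr_apply]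
        simp only [map_sum, map_smul]
        refine Finset.sum_congr rfl fun j _ => Finset.sum_congr rfl fun k _ => ?_
        exact congrArg _ (hR _ _ (hassoc _ _ _)).symm
      have e2 : evalMat (g y z) (lmat μ x E) = evalMat (g y z) (rmat μ x E) := by
        rw [← sub_eq_zero, ← evalMat_sub]
        exact evalMat_eq_zero I hI _ (hgsmall y z) _ (hcomm x)
      rw [e1, e2, evalMat_rmat]
      rfl
    have h2 : assocr μ x y z = ∑ j, ∑ k, E j k • μ (Pi.single j 1) (μ (Pi.single k 1) (assocr μ x y z)) := by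
      conv_lhs => rw [← hEm _ (hassoc x y z)]
      simp only [evalMat, map_sum, map_smul, LinearMap.sum_apply, LinearMap.smul_apply]
      exact Finset.sum_congr rfl fun j _ => Finset.sum_congr rfl fun k _ =>
        congrArg _ (hR _ _ (hassoc x y z))
    rw [h1, h2, corr_apply, corr_apply, corr_apply]
    simp only [map_sum, map_smul, LinearMap.sum_apply, LinearMap.smul_apply,
      ← Finset.sum_sub_distrib, ← Finset.sum_add_distrib, ← smul_sub, ← smul_add]
    refine Finset.sum_congr rfl fun j _ => Finset.sum_congr rfl fun k _ => ?_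
    rw [hM _ _ (hassoc (Pi.single k 1) x y), ← map_sub, ← map_add, ← map_sub]
    congr 2
    have := hcoc (Pi.single k 1) x y z
    rw [← sub_eq_zero] at this
    rw [← sub_eq_zero, ← neg_eq_zero]
    refine Eq.trans ?_ this
    abel
  have hc := fun a b => corr_small I (μ := μ) (E := E) hassoc a b
  have h3 : corr μ E (corr μ E x y) z = 0 :=
    apply_small_eq_zero I hI ((corr μ E).flip z) (fun a => hc a z) (hc x y)
  have h4 : corr μ E x (corr μ E y z) = 0 :=
    apply_small_eq_zero I hI (corr μ E x) (hc x) (hc y z)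
  simp only [LinearMap.add_apply, map_add, h3, h4, add_zero]
  rw [← sub_eq_zero]
  refine Eq.trans ?_ (sub_eq_zero.mpr hd.symm)
  simp only [assocr]
  abel

/-- An associative multiplication which is unital modulo a square-zero ideal is unital. -/
theorem exists_unit (hI : I * I = ⊥) (hassoc : ∀ x y z, μ (μ x y) z = μ x (μ y z))
    (hl : ∀ x, μ u x - x ∈ small I) (hr : ∀ x, μ x u - x ∈ small I) :
    ∃ e : Fin m → B, e - u ∈ small I ∧ (∀ x, μ e x = x) ∧ ∀ x, μ x e = x := by
  have hbij : ∀ L : (Fin m → B) →ₗ[B] (Fin m → B), (∀ x, L x - x ∈ small I) → Function.Bijective L := by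
    intro L hL
    have hsq : ∀ x, (L - LinearMap.id : (Fin m → B) →ₗ[B] (Fin m → B)) (L x - x) = 0 := fun x =>
      apply_small_eq_zero I hI _ hL (hL x)
    refine ⟨(injective_iff_map_eq_zero L).mpr fun x hx => ?_, fun x => ⟨x - (L x - x), ?_⟩⟩
    · have hxs : x ∈ small I := by simpa [hx] using hL x
      rw [← eq_of_small I hI L hL hxs, hx]
    · rw [map_sub, eq_of_small I hI L hL (hL x)]
      abel
  obtain ⟨e₁, he₁⟩ := (hbij (μ u) hl).2 u
  obtain ⟨e₂, he₂⟩ := (hbij (μ.flip u) hr).2 u
  replace he₂ : μ e₂ u = u := he₂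
  have h1 : ∀ x, μ x e₁ = x := fun x => by
    obtain ⟨z, hz⟩ := (hbij (μ.flip u) hr).2 x
    replace hz : μ z u = x := hz
    rw [← hz, hassoc, he₁]
  have h2 : ∀ x, μ e₂ x = x := fun x => by
    obtain ⟨z, hz⟩ := (hbij (μ u) hl).2 x
    rw [← hz, ← hassoc, he₂]
  have he : e₂ = e₁ := (h1 e₂).symm.trans (h2 e₁)
  refine ⟨e₁, ?_, he ▸ h2, h1⟩
  have h5 := hl e₁
  rw [he₁] at h5
  simpa using (small I).neg_mem h5

end

end Groth.Agent.AzLift21
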