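import Mathlib
import Groth.Agent.AzLift21.Square

/-!
# The scheme of Azumaya structures on a free module is smooth
-/

set_option autoImplicit false

universe u

open MvPolynomial Matrix

namespace Groth.Agent.AzLift21

variable {B : Type*} [CommRing B] {m : ℕ}

/-- The bilinear map `(a, b) ↦ (a y) b`. -/
def midMul (μ : (Fin m → B) →ₗ[B] (Fin m → B) →ₗ[B] (Fin m → B)) (y : Fin m → B) :
    (Fin m → B) →ₗ[B] (Fin m → B) →ₗ[B] (Fin m → B) :=
  μ.comp (μ.flip y)

theorem midMul_apply (μ : (Fin m → B) →ₗ[B] (Fin m → B) →ₗ[B] (Fin m → B)) (y a b : Fin m → B) :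
    midMul μ y a b = μ (μ a y) b := rfl

/-- The matrix of `a ⊗ b ↦ (y ↦ a y b)`. -/
def sandwich (μ : (Fin m → B) →ₗ[B] (Fin m → B) →ₗ[B] (Fin m → B)) :
    Matrix (Fin m × Fin m) (Fin m × Fin m) B :=
  Matrix.of fun pq jk => μ (μ (Pi.single jk.1 1) (Pi.single pq.1 1)) (Pi.single jk.2 1) pq.2

theorem evalMat_midMul_single (μ : (Fin m → B) →ₗ[B] (Fin m → B) →ₗ[B] (Fin m → B))
    (E : Fin m → Fin m → B) (p q : Fin m) :
    evalMat (midMul μ (Pi.single p 1)) E q = (sandwich μ *ᵥ fun jk => E jk.1 jk.2) (p, q) := by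
  simp only [evalMat, midMul_apply, Finset.sum_apply, Pi.smul_apply, smul_eq_mul, sandwich,
    Matrix.mulVec, dotProduct, Matrix.of_apply, Fintype.sum_prod_type]
  exact Finset.sum_congr rfl fun j _ => Finset.sum_congr rfl fun k _ => mul_comm _ _

theorem comp_single {B' : Type*} [CommRing B'] (φ : B →+* B') (i : Fin m) :
    φ ∘ (Pi.single i 1 : Fin m → B) = Pi.single i 1 := by
  funext k
  simp [Pi.single_apply, apply_ite φ]

/-- The structure equations. -/
def assocEq (c : Fin m → Fin m → Fin m → B) (i j k : Fin m) : Fin m → B :=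
  mult c (mult c (Pi.single i 1) (Pi.single j 1)) (Pi.single k 1) -
    mult c (Pi.single i 1) (mult c (Pi.single j 1) (Pi.single k 1))

/-- An index type for the structure equations. -/
abbrev RelIdx (m : ℕ) : Type :=
  (Fin m × Fin m × Fin m × Fin m) ⊕ (Fin m × Fin m) ⊕ (Fin m × Fin m) ⊕ Unit ⊕ Unit

/-- The structure equations of an Azumaya structure on `B ^ m` (with a linear form taking the value
`1` at the unit, and the inverse of the determinant of the sandwich map). -/
noncomputable def eqns (c : Fin m → Fin m → Fin m → B) (e f : Fin m → B) (w : B) : RelIdx m → B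
  | .inl (i, j, k, l) => assocEq c i j k l
  | .inr (.inl (i, l)) => mult c e (Pi.single i 1) l - (Pi.single i 1 : Fin m → B) l
  | .inr (.inr (.inl (i, l))) => mult c (Pi.single i 1) e l - (Pi.single i 1 : Fin m → B) l
  | .inr (.inr (.inr (.inl _))) => ∑ i, f i * e i - 1
  | .inr (.inr (.inr (.inr _))) => w * (sandwich (mult c)).det - 1

theorem map_eqns {B' : Type*} [CommRing B'] (φ : B →+* B') (c : Fin m → Fin m → Fin m → B)
    (e f : Fin m → B) (w : B) (r : RelIdx m) :
    φ (eqns c e f w r) = eqns (fun i j k => φ (c i j k)) (φ ∘ e) (φ ∘ f) (φ w) r := by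
  have hm : ∀ (x y : Fin m → B) l,
      φ (mult c x y l) = mult (fun i j k => φ (c i j k)) (φ ∘ x) (φ ∘ y) l :=
    fun x y l => congrFun (map_mult φ c x y) l
  rcases r with ⟨i, j, k, l⟩ | ⟨i, l⟩ | ⟨i, l⟩ | _ | _
  · simp only [eqns, assocEq, Pi.sub_apply, map_sub, hm, map_mult, comp_single]
  · simp only [eqns, map_sub, hm, comp_single, ← congrFun (comp_single φ i) l, Function.comp_apply]
  · simp only [eqns, map_sub, hm, comp_single, ← congrFun (comp_single φ i) l, Function.comp_apply]
  · simp [eqns]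
  · have : φ (sandwich (mult c)).det = (sandwich (mult fun i j k => φ (c i j k))).det := by
      rw [RingHom.map_det]
      congr 1
      ext pq jk
      simp only [sandwich, RingHom.mapMatrix_apply, Matrix.map_apply, Matrix.of_apply, hm, map_mult,
        comp_single]
    simp [eqns, this]

theorem assoc_of_eqns (I : Ideal B) {c : Fin m → Fin m → Fin m → B}
    (h : ∀ i j k l, assocEq c i j k l ∈ I) (x y z : Fin m → B) :
    assocr (mult c) x y z ∈ small I := by
  set μ := mult c
  have h1 : ∀ i j z, assocr μ (Pi.single i 1) (Pi.single j 1) z ∈ small I := by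
    intro i j z
    rw [← sum_smul_single z]
    simp only [assocr, map_sum, map_smul, ← Finset.sum_sub_distrib, ← smul_sub]
    exact sum_mem fun k _ => Submodule.smul_mem _ _ (h i j k)
  have h2 : ∀ i y z, assocr μ (Pi.single i 1) y z ∈ small I := by
    intro i y z
    rw [← sum_smul_single y]
    simp only [assocr, map_sum, map_smul, LinearMap.sum_apply, LinearMap.smul_apply,
      ← Finset.sum_sub_distrib, ← smul_sub]
    exact sum_mem fun k _ => Submodule.smul_mem _ _ (h1 i k z)
  rw [← sum_smul_single x]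
  simp only [assocr, map_sum, map_smul, LinearMap.sum_apply, LinearMap.smul_apply,
    ← Finset.sum_sub_distrib, ← smul_sub]
  exact sum_mem fun k _ => Submodule.smul_mem _ _ (h2 k y z)

theorem id_of_basis (I : Ideal B) (L : (Fin m → B) →ₗ[B] (Fin m → B))
    (h : ∀ i, L (Pi.single i 1) - Pi.single i 1 ∈ small I) (x : Fin m → B) : L x - x ∈ small I := by
  have e : L x - x = ∑ k, x k • (L (Pi.single k 1) - Pi.single k 1) := by
    conv_lhs => rw [← sum_smul_single x]
    simp [map_sum, smul_sub, Finset.sum_sub_distrib]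
  rw [e]
  exact sum_mem fun k _ => Submodule.smul_mem _ _ (h k)

/-- A structure modulo a square-zero ideal lifts to a structure. -/
theorem exists_eqns_eq_zero (I : Ideal B) (hI : I * I = ⊥) (c : Fin m → Fin m → Fin m → B)
    (e f : Fin m → B) (w : B) (h : ∀ r, eqns c e f w r ∈ I) :
    ∃ (c' : Fin m → Fin m → Fin m → B) (e' f' : Fin m → B) (w' : B),
      (∀ i j k, c' i j k - c i j k ∈ I) ∧ (∀ i, e' i - e i ∈ I) ∧ (∀ i, f' i - f i ∈ I) ∧
      w' - w ∈ I ∧ ∀ r, eqns c' e' f' w' r = 0 := by
  set μ := mult c with hμ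
  have hassoc := assoc_of_eqns I (c := c) fun i j k l => h (.inl (i, j, k, l))
  rw [← hμ] at hassoc
  have hl : ∀ x, μ e x - x ∈ small I :=
    id_of_basis I (μ e) fun i l => h (.inr (.inl (i, l)))
  have hr : ∀ x, μ x e - x ∈ small I :=
    id_of_basis I (μ.flip e) fun i l => h (.inr (.inr (.inl (i, l))))
  have hf : ∑ i, f i * e i - 1 ∈ I := h (.inr (.inr (.inr (.inl ()))))
  have hw : w * (sandwich μ).det - 1 ∈ I := h (.inr (.inr (.inr (.inr ()))))
  -- the separability element
  let target : Fin m × Fin m → B := fun pq => f pq.1 * e pq.2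
  let v : Fin m × Fin m → B := w • ((sandwich μ).adjugate *ᵥ target)
  let E : Fin m → Fin m → B := fun j k => v (j, k)
  have hv : ∀ pq, (sandwich μ *ᵥ v) pq - target pq ∈ I := by
    intro pq
    have : sandwich μ *ᵥ v = (w * (sandwich μ).det) • target := by
      simp only [v, Matrix.mulVec_smul, Matrix.mulVec_mulVec, Matrix.mul_adjugate, Matrix.smul_mulVec,
        Matrix.one_mulVec, smul_smul]
    rw [this, Pi.smul_apply, smul_eq_mul, show w * (sandwich μ).det * target pq - target pq =
      (w * (sandwich μ).det - 1) * target pq by ring]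
    exact I.mul_mem_right _ hw
  -- congruences
  let π : (Fin m → B) →ₗ[B] (Fin m → B) ⧸ small I := (small I).mkQ
  have hπ : ∀ {x y : Fin m → B}, π x = π y ↔ x - y ∈ small I := Submodule.Quotient.eq _
  have hπmap : ∀ (L : (Fin m → B) →ₗ[B] (Fin m → B)) {x y}, π x = π y → π (L x) = π (L y) :=
    fun L x y hxy => hπ.mpr (by rw [← map_sub]; exact map_small I L (hπ.mp hxy))
  have hA : ∀ x y z, π (μ (μ x y) z) = π (μ x (μ y z)) := fun x y z => hπ.mpr (hassoc x y z)
  let φ : (Fin m → B) →ₗ[B] B := ∑ i, f i • LinearMap.proj i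
  have hφ : ∀ y, φ y = ∑ i, f i * y i := fun y => by simp [φ]
  have hΦ : ∀ y, π (evalMat (midMul μ y) E) = φ y • π e := by
    intro y
    have h1 : ∀ p, π (evalMat (midMul μ (Pi.single p 1)) E) = f p • π e := fun p => by
      rw [← map_smul, hπ]
      intro q
      rw [Pi.sub_apply, evalMat_midMul_single, Pi.smul_apply, smul_eq_mul]
      exact hv (p, q)
    have h2 : evalMat (midMul μ y) E = ∑ p, y p • evalMat (midMul μ (Pi.single p 1)) E := by
      conv_lhs => rw [← sum_smul_single y]
      simp only [evalMat, midMul_apply, map_sum, map_smul, LinearMap.sum_apply, LinearMap.smul_apply,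
        Finset.smul_sum]
      rw [Finset.sum_comm]
      refine (Finset.sum_congr rfl fun j _ => Finset.sum_comm).trans ?_
      simp only [smul_comm (E _ _)]
      rw [Finset.sum_comm]
      exact Finset.sum_congr rfl fun _ _ => Finset.sum_comm
    rw [h2, map_sum, hφ, Finset.sum_smul]
    refine Finset.sum_congr rfl fun p _ => ?_
    rw [map_smul, h1, smul_smul, mul_comm]
  have hcomm : ∀ x p q, (lmat μ x E - rmat μ x E) p q ∈ I := by
    intro x
    set D := lmat μ x E - rmat μ x E
    have hL : ∀ y, π (evalMat (midMul μ y) (lmat μ x E)) = φ y • π x := by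
      intro y
      have h1 : π (evalMat (midMul μ y) (lmat μ x E)) = π (μ x (evalMat (midMul μ y) E)) := by
        rw [evalMat_lmat]
        simp only [evalMat, midMul_apply, map_sum, map_smul]
        refine Finset.sum_congr rfl fun j _ => Finset.sum_congr rfl fun k _ => congrArg _ ?_
        exact (hπmap (μ.flip _) (hA x (Pi.single j 1) y)).trans (hA x _ _)
      rw [h1, hπmap (μ x) (y := φ y • e) ((hΦ y).trans (map_smul _ _ _).symm), map_smul, map_smul,
        hπ.mpr (hr x)]
    have hR : ∀ y, π (evalMat (midMul μ y) (rmat μ x E)) = φ y • π x := by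
      intro y
      have h1 : π (evalMat (midMul μ y) (rmat μ x E)) = π (μ (evalMat (midMul μ y) E) x) := by
        rw [evalMat_rmat]
        simp only [evalMat, midMul_apply, map_sum, map_smul, LinearMap.sum_apply, LinearMap.smul_apply]
        refine Finset.sum_congr rfl fun j _ => Finset.sum_congr rfl fun k _ => congrArg _ ?_
        exact (hA _ _ _).symm
      rw [h1]
      refine (hπmap (μ.flip x) (y := φ y • e) ((hΦ y).trans (map_smul _ _ _).symm)).trans ?_
      rw [map_smul, map_smul]
      exact congrArg _ (hπ.mpr (hl x))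
    have hD : ∀ pq, (sandwich μ *ᵥ fun jk => D jk.1 jk.2) pq ∈ I := by
      rintro ⟨p, q⟩
      rw [← evalMat_midMul_single, evalMat_sub]
      exact hπ.mp ((hL _).trans (hR _).symm) q
    intro p q
    let d : Fin m × Fin m → B := fun jk => D jk.1 jk.2
    have h1 : w • ((sandwich μ).adjugate *ᵥ (sandwich μ *ᵥ d)) = (w * (sandwich μ).det) • d := by
      simp only [Matrix.mulVec_mulVec, Matrix.adjugate_mul, Matrix.smul_mulVec, Matrix.one_mulVec,
        smul_smul]
    have h2 : (w • ((sandwich μ).adjugate *ᵥ (sandwich μ *ᵥ d))) (p, q) ∈ I := by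
      simp only [Pi.smul_apply, smul_eq_mul, Matrix.mulVec, dotProduct]
      exact I.mul_mem_left _ (I.sum_mem fun jk _ => I.mul_mem_left _ (hD jk))
    rw [h1, Pi.smul_apply, smul_eq_mul] at h2
    have h3 : d (p, q) = w * (sandwich μ).det * d (p, q) - (w * (sandwich μ).det - 1) * d (p, q) := by
      ring
    show d (p, q) ∈ I
    rw [h3]
    exact I.sub_mem h2 (I.mul_mem_right _ hw)
  have hm : evalMat μ E - e ∈ small I := by
    rw [← hπ]
    have h1 : π (evalMat μ E) = π (evalMat (midMul μ e) E) := by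
      simp only [evalMat, midMul_apply, map_sum, map_smul]
      exact Finset.sum_congr rfl fun j _ => Finset.sum_congr rfl fun k _ =>
        congrArg _ (hπmap (μ.flip _) (hπ.mpr (hr (Pi.single j 1)))).symm
    have h2 : (φ e - 1) • e ∈ small I := fun i => I.mul_mem_right _ (by rw [hφ]; exact hf)
    rw [h1, hΦ, ← map_smul, hπ]
    rwa [sub_smul, one_smul] at h2
  obtain ⟨μ', hμ', hμ'assoc⟩ := exists_assoc I hI hassoc hl hcomm hm
  have hl' : ∀ x, μ' e x - x ∈ small I := fun x => by
    have := add_mem (hμ' e x) (hl x)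
    rwa [sub_add_sub_cancel] at this
  have hr' : ∀ x, μ' x e - x ∈ small I := fun x => by
    have := add_mem (hμ' x e) (hr x)
    rwa [sub_add_sub_cancel] at this
  obtain ⟨e', he', he'l, he'r⟩ := exists_unit I hI hμ'assoc hl' hr'
  let c' : Fin m → Fin m → Fin m → B := fun i j => μ' (Pi.single i 1) (Pi.single j 1)
  have hμc' : mult c' = μ' := (eq_mult μ').symm
  have hnil : ∀ {a : B}, a - 1 ∈ I → IsUnit a := fun {a} ha => by
    have h0 : (a - 1) * (a - 1) = 0 := by
      have := Ideal.mul_mem_mul ha ha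
      rwa [hI, Ideal.mem_bot] at this
    exact IsUnit.of_mul_eq_one (2 - a) (by linear_combination -h0)
  have hs : ∑ i, f i * e' i - 1 ∈ I := by
    have : ∑ i, f i * e' i - 1 = (∑ i, f i * (e' i - e i)) + (∑ i, f i * e i - 1) := by
      simp [mul_sub]
    rw [this]
    exact I.add_mem (I.sum_mem fun i _ => I.mul_mem_left _ (he' i)) hf
  obtain ⟨s, hs'⟩ := hnil hs
  have hc : ∀ i j k, c' i j k - c i j k ∈ I := fun i j k => by
    have := hμ' (Pi.single i 1) (Pi.single j 1) k
    rwa [Pi.sub_apply, hμ, mult_single] at this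
  have hdet : (sandwich μ').det - (sandwich μ).det ∈ I := by
    rw [← Ideal.Quotient.eq, RingHom.map_det, RingHom.map_det]
    congr 1
    ext pq jk
    simp only [RingHom.mapMatrix_apply, Matrix.map_apply, sandwich, Matrix.of_apply,
      Ideal.Quotient.eq]
    have : μ' (μ' (Pi.single jk.1 1) (Pi.single pq.1 1)) (Pi.single jk.2 1) -
        μ (μ (Pi.single jk.1 1) (Pi.single pq.1 1)) (Pi.single jk.2 1) ∈ small I := by
      rw [← sub_add_sub_cancel _ (μ (μ' (Pi.single jk.1 1) (Pi.single pq.1 1)) (Pi.single jk.2 1))]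
      exact add_mem (hμ' _ _) (hπ.mp (hπmap (μ.flip _) (hπ.mpr (hμ' _ _))))
    exact this pq.2
  obtain ⟨t, ht⟩ := hnil (a := w * (sandwich μ').det) (by
    have : w * (sandwich μ').det - 1 =
        w * ((sandwich μ').det - (sandwich μ).det) + (w * (sandwich μ).det - 1) := by ring
    rw [this]
    exact I.add_mem (I.mul_mem_left _ hdet) hw)
  refine ⟨c', e', fun i => ↑s⁻¹ * f i, ↑t⁻¹ * w, hc, fun i => he' i, fun i => ?_, ?_, ?_⟩
  · have : (↑s⁻¹ : B) * f i - f i = -(↑s⁻¹ * f i * (↑s - 1)) := by
      linear_combination f i * s.inv_mul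
    rw [this]
    exact I.neg_mem (I.mul_mem_left _ (hs' ▸ hs))
  · have : (↑t⁻¹ : B) * w - w = -(↑t⁻¹ * w * (↑t - 1)) := by
      linear_combination w * t.inv_mul
    rw [this, ht]
    refine I.neg_mem (I.mul_mem_left _ ?_)
    have : w * (sandwich μ').det - 1 =
        w * ((sandwich μ').det - (sandwich μ).det) + (w * (sandwich μ).det - 1) := by ring
    rw [this]
    exact I.add_mem (I.mul_mem_left _ hdet) hw
  · rintro (⟨i, j, k, l⟩ | ⟨i, l⟩ | ⟨i, l⟩ | _ | _)
    · simp [eqns, assocEq, hμc', hμ'assoc]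
    · simp [eqns, hμc', he'l]
    · simp [eqns, hμc', he'r]
    · simp [eqns, mul_assoc, ← Finset.mul_sum, ← hs']
    · simp [eqns, hμc', mul_assoc, ← ht]

section Univ

variable (R : Type u) [CommRing R] (m)

/-- The variables. -/
abbrev Vars : Type := (Fin m × Fin m × Fin m) ⊕ Fin m ⊕ Fin m ⊕ Unit

/-- The relations. -/
noncomputable def relations : RelIdx m → MvPolynomial (Vars m) R :=
  eqns (fun i j k => X (.inl (i, j, k))) (fun i => X (.inr (.inl i)))
    (fun i => X (.inr (.inr (.inl i)))) (X (.inr (.inr (.inr ()))))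

/-- The ring of universal structures. -/
abbrev Univ : Type u := MvPolynomial (Vars m) R ⧸ Ideal.span (Set.range (relations m R))

variable {m R}

theorem aeval_relations {A : Type*} [CommRing A] [Algebra R A] (g : Vars m → A) (r : RelIdx m) :
    aeval g (relations m R r) =
      eqns (fun i j k => g (.inl (i, j, k))) (fun i => g (.inr (.inl i)))
        (fun i => g (.inr (.inr (.inl i)))) (g (.inr (.inr (.inr ())))) r := by
  rw [relations, ← RingHom.coe_coe, map_eqns]
  simp [Function.comp_def]

/-- A solution of the equations is a point of the universal ring. -/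
theorem exists_algHom {A : Type*} [CommRing A] [Algebra R A] (g : Vars m → A)
    (h : ∀ r, eqns (fun i j k => g (.inl (i, j, k))) (fun i => g (.inr (.inl i)))
        (fun i => g (.inr (.inr (.inl i)))) (g (.inr (.inr (.inr ())))) r = 0) :
    ∃ τ : Univ m R →ₐ[R] A, ∀ v, τ (Ideal.Quotient.mk _ (X v)) = g v :=
  ⟨Ideal.Quotient.liftₐ _ (aeval g) fun a ha => by
    have : Ideal.span (Set.range (relations m R)) ≤ RingHom.ker (aeval g : MvPolynomial (Vars m) R →ₐ[R] A) := by
      rw [Ideal.span_le]
      rintro _ ⟨r, rfl⟩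
      rw [SetLike.mem_coe, RingHom.mem_ker, aeval_relations]
      exact h r
    exact this ha, fun v => aeval_X g v⟩

theorem eqns_eq_zero {A : Type*} [CommRing A] [Algebra R A] (τ : Univ m R →ₐ[R] A) (r : RelIdx m) :
    eqns (fun i j k => τ (Ideal.Quotient.mk _ (X (.inl (i, j, k)))))
      (fun i => τ (Ideal.Quotient.mk _ (X (.inr (.inl i)))))
      (fun i => τ (Ideal.Quotient.mk _ (X (.inr (.inr (.inl i))))))
      (τ (Ideal.Quotient.mk _ (X (.inr (.inr (.inr ())))))) r = 0 := by
  rw [← aeval_relations (R := R) (fun v => τ (Ideal.Quotient.mk _ (X v))) r]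
  have : aeval (fun v => τ (Ideal.Quotient.mk _ (X v))) = τ.comp (Ideal.Quotient.mkₐ R _) :=
    MvPolynomial.algHom_ext fun v => by rw [aeval_X]; rfl
  rw [this, AlgHom.comp_apply, Ideal.Quotient.mkₐ_eq_mk,
    Ideal.Quotient.eq_zero_iff_mem.mpr (Ideal.subset_span (Set.mem_range_self r)), map_zero]

theorem smooth_univ : Algebra.Smooth R (Univ m R) := by
  refine { formallySmooth := ?_, finitePresentation := ?_ }
  · refine Algebra.FormallySmooth.of_comp_surjective fun B _ _ I hI σ => ?_
    have hI' : I * I = ⊥ := by rw [← pow_two, hI]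
    choose g hg using fun v : Vars m => Ideal.Quotient.mk_surjective (σ (Ideal.Quotient.mk _ (X v)))
    obtain ⟨c', e', f', w', hc, he, hf, hw, h0⟩ := exists_eqns_eq_zero I hI'
      (fun i j k => g (.inl (i, j, k))) (fun i => g (.inr (.inl i)))
      (fun i => g (.inr (.inr (.inl i)))) (g (.inr (.inr (.inr ())))) fun r => by
        rw [← Ideal.Quotient.eq_zero_iff_mem, map_eqns]
        simp only [Function.comp_def, hg]
        exact eqns_eq_zero σ r
    let g' : Vars m → B := Sum.elim (fun ijk => c' ijk.1 ijk.2.1 ijk.2.2)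
      (Sum.elim e' (Sum.elim f' fun _ => w'))
    obtain ⟨τ, hτ⟩ := exists_algHom (R := R) g' h0
    refine ⟨τ, Ideal.Quotient.algHom_ext R (MvPolynomial.algHom_ext fun v => ?_)⟩
    show Ideal.Quotient.mk I (τ (Ideal.Quotient.mk _ (X v))) = σ (Ideal.Quotient.mk _ (X v))
    rw [hτ, ← hg v, Ideal.Quotient.eq]
    rcases v with ⟨i, j, k⟩ | i | i | u
    exacts [hc i j k, he i, hf i, hw]
  · classical
    exact Algebra.FinitePresentation.quotient ⟨(Finset.univ.image (relations m R)), by simp⟩

end Univ

end Groth.Agent.AzLift21
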