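import Mathlib
import Groth.Agent.AzLift21.Univ
import Groth.Agent.S0536
import Groth.Agent.Lib.CSA.Basic

/-!
# Lifting central simple algebras to Azumaya algebras over henselian local rings
-/

set_option autoImplicit false

universe u

open TensorProduct Matrix

namespace Groth.Agent.AzLift21

theorem bijective_mulVec_iff {ι S : Type*} [Fintype ι] [DecidableEq ι] [CommRing S] (M : Matrix ι ι S) :
    Function.Bijective M.mulVecLin ↔ IsUnit M.det := by
  rw [← Matrix.isUnit_iff_isUnit_det]
  refine ⟨fun h => Matrix.mulVec_surjective_iff_isUnit.mp h.2, fun h => ?_⟩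
  refine ⟨fun x y hxy => ?_, Matrix.mulVec_surjective_iff_isUnit.mpr h⟩
  obtain ⟨U, rfl⟩ := h
  have := congrArg ((↑U⁻¹ : Matrix ι ι S).mulVec) hxy
  simpa [Matrix.mulVec_mulVec] using this

/-- The sandwich map is bijective iff its determinant is a unit. -/
theorem bijective_mulLeftRight_iff {S : Type*} [CommRing S] {A : Type*} [Ring A] [Algebra S A] {m : ℕ}
    (b : Module.Basis (Fin m) S A)
    (μ : (Fin m → S) →ₗ[S] (Fin m → S) →ₗ[S] (Fin m → S))
    (hμ : ∀ x y, b.equivFun (x * y) = μ (b.equivFun x) (b.equivFun y)) :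
    Function.Bijective (AlgHom.mulLeftRight S A) ↔ IsUnit (sandwich μ).det := by
  classical
  rw [← bijective_mulVec_iff]
  let bt := b.tensorProduct (b.map (MulOpposite.opLinearEquiv S))
  let θ := bt.equivFun.symm
  let coords : Module.End S A →ₗ[S] (Fin m × Fin m → S) :=
    LinearMap.pi fun pq => (LinearMap.proj pq.2).comp
      (b.equivFun.toLinearMap.comp (LinearMap.applyₗ (b pq.1)))
  have hcoords : Function.Bijective coords := by
    refine ⟨fun F G h => b.ext fun p => b.equivFun.injective (funext fun q => congrFun h (p, q)),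
      fun v => ⟨b.constr S fun p => b.equivFun.symm fun q => v (p, q), funext fun pq => ?_⟩⟩
    simp [coords, LinearMap.applyₗ, Finsupp.single_apply]
  have hT : coords.comp ((AlgHom.mulLeftRight S A).toLinearMap.comp θ.toLinearMap) =
      (sandwich μ).mulVecLin := by
    refine LinearMap.pi_ext' fun jk => LinearMap.ext_ring (funext fun pq => ?_)
    obtain ⟨j, k⟩ := jk
    obtain ⟨p, q⟩ := pq
    have hθ : θ (Pi.single (j, k) 1) = b j ⊗ₜ[S] MulOpposite.op (b k) := by
      simp [θ, bt, Module.Basis.equivFun_symm_apply, Pi.single_apply]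
    have hb : ∀ i, b.equivFun (b i) = Pi.single i 1 := fun i => by
      funext l
      simp [Module.Basis.equivFun_self, Pi.single_apply, eq_comm]
    simp only [LinearMap.coe_comp, Function.comp_apply, LinearEquiv.coe_coe, LinearMap.coe_single,
      hθ]
    simp only [coords, LinearMap.pi_apply, LinearMap.coe_comp, Function.comp_apply, LinearEquiv.coe_coe,
      LinearMap.applyₗ_apply_apply, AlgHom.toLinearMap_apply, AlgHom.mulLeftRight_apply,
      MulOpposite.unop_op, LinearMap.proj_apply, hμ, hb]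
    simp [sandwich, Matrix.mulVec_single]
  rw [← hT, LinearMap.coe_comp, LinearMap.coe_comp, Function.Bijective.of_comp_iff' hcoords]
  exact (Function.Bijective.of_comp_iff _ θ.bijective).symm

/-- The structure constants of an algebra with a basis. -/
theorem exists_structure {k : Type*} [Field k] {A : Type*} [Ring A] [Algebra k A] {m : ℕ}
    (b : Module.Basis (Fin m) k A) [Nontrivial A]
    (hA : Function.Bijective (AlgHom.mulLeftRight k A)) :
    ∃ (c : Fin m → Fin m → Fin m → k) (f : Fin m → k) (w : k),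
      (∀ x y, b.equivFun (x * y) = mult c (b.equivFun x) (b.equivFun y)) ∧
      ∀ r, eqns c (b.equivFun 1) f w r = 0 := by
  classical
  let μ : (Fin m → k) →ₗ[k] (Fin m → k) →ₗ[k] (Fin m → k) :=
    (((LinearMap.mul k A).comp b.equivFun.symm.toLinearMap).compl₂ b.equivFun.symm.toLinearMap).compr₂
      b.equivFun.toLinearMap
  have hμ : ∀ x y, b.equivFun (x * y) = μ (b.equivFun x) (b.equivFun y) := fun x y => by
    simp only [μ, LinearMap.compr₂_apply, LinearMap.compl₂_apply, LinearMap.comp_apply,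
      LinearEquiv.coe_coe, LinearEquiv.symm_apply_apply, LinearMap.mul_apply']
  let c : Fin m → Fin m → Fin m → k := fun i j => μ (Pi.single i 1) (Pi.single j 1)
  have hc : mult c = μ := (eq_mult μ).symm
  set e := b.equivFun 1
  have he : ∀ x, μ e x = x ∧ μ x e = x := fun x => by
    obtain ⟨y, rfl⟩ := b.equivFun.surjective x
    rw [← hμ, ← hμ, one_mul, mul_one]
    exact ⟨rfl, rfl⟩
  obtain ⟨i₀, hi₀⟩ : ∃ i, e i ≠ 0 := by
    by_contra! h
    have h1 : b.equivFun (1 : A) = b.equivFun 0 := by rw [map_zero]; exact funext h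
    exact one_ne_zero (b.equivFun.injective h1)
  obtain ⟨t, ht⟩ := (bijective_mulLeftRight_iff b μ hμ).mp hA
  refine ⟨c, Pi.single i₀ (e i₀)⁻¹, ↑t⁻¹, fun x y => by rw [hc]; exact hμ x y, ?_⟩
  rintro (⟨i, j, l, q⟩ | ⟨i, q⟩ | ⟨i, q⟩ | _ | _)
  · obtain ⟨x, hx⟩ := b.equivFun.surjective (Pi.single i 1)
    obtain ⟨y, hy⟩ := b.equivFun.surjective (Pi.single j 1)
    obtain ⟨z, hz⟩ := b.equivFun.surjective (Pi.single l 1)
    show assocEq c i j l q = 0
    rw [assocEq, hc, ← hx, ← hy, ← hz, ← hμ, ← hμ, ← hμ, ← hμ, mul_assoc, sub_self]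
    rfl
  · simp [eqns, hc, (he _).1]
  · simp [eqns, hc, (he _).2]
  · simp [eqns, Pi.single_apply, hi₀]
  · simp [eqns, hc, ← ht]

/-- An algebra with prescribed structure constants. -/
theorem exists_algebra_aux {R : Type u} [CommRing R] {m : ℕ} (c : Fin m → Fin m → Fin m → R)
    (e f : Fin m → R) (w : R) (h : ∀ r, eqns c e f w r = 0) :
    ∃ (A : Type u) (_ : Ring A) (_ : Algebra R A) (φ : A ≃ₗ[R] (Fin m → R)), φ 1 = e ∧ ∀ x y, φ (x * y) = mult c (φ x) (φ y) := by
  set μ := mult c
  have hassoc : ∀ x y z, μ (μ x y) z = μ x (μ y z) := fun x y z => sub_eq_zero.mp (funext fun l => by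
    have := assoc_of_eqns (⊥ : Ideal R) (c := c) (fun i j k l => h (.inl (i, j, k, l))) x y z l
    simpa [assocr] using this)
  have hl : ∀ x, μ e x = x := fun x => sub_eq_zero.mp (funext fun l => by
    simpa using id_of_basis (⊥ : Ideal R) (μ e) (fun i l => h (.inr (.inl (i, l)))) x l)
  have hr : ∀ x, μ x e = x := fun x => sub_eq_zero.mp (funext fun l => by
    simpa using id_of_basis (⊥ : Ideal R) (μ.flip e) (fun i l => h (.inr (.inr (.inl (i, l))))) x l)
  let A : Subalgebra R (Module.End R (Fin m → R)) :=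
    { carrier := Set.range μ
      mul_mem' := by rintro _ _ ⟨x, rfl⟩ ⟨y, rfl⟩; exact ⟨μ x y, LinearMap.ext fun z => hassoc x y z⟩
      one_mem' := ⟨e, LinearMap.ext hl⟩
      add_mem' := by rintro _ _ ⟨x, rfl⟩ ⟨y, rfl⟩; exact ⟨x + y, map_add μ x y⟩
      zero_mem' := ⟨0, map_zero μ⟩
      algebraMap_mem' := fun r => ⟨r • e, LinearMap.ext fun z => by
        simp [map_smul, hl, Module.algebraMap_end_apply]⟩ }
  let ψ : (Fin m → R) →ₗ[R] A :=
    { toFun := fun x => ⟨μ x, x, rfl⟩
      map_add' := fun x y => Subtype.ext (map_add μ x y)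
      map_smul' := fun r x => Subtype.ext (map_smul μ r x) }
  have hψ : Function.Bijective ψ := by
    refine ⟨fun x y hxy => ?_, fun ⟨_, x, hx⟩ => ⟨x, Subtype.ext hx⟩⟩
    have := congrArg (fun a : A => (a : Module.End R (Fin m → R)) e) hxy
    simpa [ψ, hr] using this
  let Ψ := LinearEquiv.ofBijective ψ hψ
  have hone : Ψ.symm 1 = e := Ψ.injective (by
    rw [LinearEquiv.apply_symm_apply]
    exact Subtype.ext (LinearMap.ext hl).symm)
  have hmul : ∀ x y, Ψ.symm (x * y) = μ (Ψ.symm x) (Ψ.symm y) := fun x y => by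
    apply Ψ.injective
    rw [LinearEquiv.apply_symm_apply]
    obtain ⟨x, rfl⟩ := Ψ.surjective x
    obtain ⟨y, rfl⟩ := Ψ.surjective y
    rw [LinearEquiv.symm_apply_apply, LinearEquiv.symm_apply_apply]
    exact Subtype.ext (LinearMap.ext fun z => (hassoc x y z).symm)
  exact ⟨A, inferInstance, inferInstance, Ψ.symm, hone, hmul⟩

/-- An Azumaya algebra with prescribed structure constants. -/
theorem exists_algebra {R : Type u} [CommRing R] {m : ℕ} (c : Fin m → Fin m → Fin m → R)
    (e f : Fin m → R) (w : R) (h : ∀ r, eqns c e f w r = 0) :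
    ∃ (A : Type u) (_ : Ring A) (_ : Algebra R A) (φ : A ≃ₗ[R] (Fin m → R)), IsAzumaya R A ∧
      φ 1 = e ∧ ∀ x y, φ (x * y) = mult c (φ x) (φ y) := by
  obtain ⟨A, _, _, φ, hone, hmul⟩ := exists_algebra_aux c e f w h
  set μ := mult c
  let b : Module.Basis (Fin m) R A := Module.Basis.ofEquivFun φ
  have : Module.Free R A := Module.Free.of_basis b
  have : Module.Finite R A := Module.Finite.of_basis b
  have : FaithfulSMul R A := by
    rw [faithfulSMul_iff_algebraMap_injective]
    intro r s hrs
    have h1 : r • e = s • e := by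
      rw [← hone, ← map_smul, ← map_smul, ← Algebra.algebraMap_eq_smul_one,
        ← Algebra.algebraMap_eq_smul_one, hrs]
    have h2 : ∑ i, f i * e i = 1 := sub_eq_zero.mp (h (.inr (.inr (.inr (.inl ())))))
    have h3 : r * ∑ i, f i * e i = s * ∑ i, f i * e i := by
      simp only [Finset.mul_sum]
      refine Finset.sum_congr rfl fun i _ => ?_
      have := congrFun h1 i
      simp only [Pi.smul_apply, smul_eq_mul] at this
      linear_combination f i * this
    rwa [h2, mul_one, mul_one] at h3
  have hbij : Function.Bijective (AlgHom.mulLeftRight R A) := by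
    refine (bijective_mulLeftRight_iff b μ fun x y => ?_).mpr ?_
    · simpa [b, Module.Basis.equivFun_ofEquivFun] using hmul x y
    · exact IsUnit.of_mul_eq_one w (by
        rw [mul_comm]
        exact sub_eq_zero.mp (h (.inr (.inr (.inr (.inr ()))))))
  exact ⟨A, inferInstance, inferInstance, φ, { bij := hbij }, hone, hmul⟩

/-- Solutions of the structure equations lift from the residue field. -/
theorem exists_lift_data (R : Type u) [CommRing R] [HenselianLocalRing R] {m : ℕ}
    (g₀ : Vars m → IsLocalRing.ResidueField R)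
    (h : ∀ r, eqns (fun i j k => g₀ (.inl (i, j, k))) (fun i => g₀ (.inr (.inl i)))
      (fun i => g₀ (.inr (.inr (.inl i)))) (g₀ (.inr (.inr (.inr ())))) r = 0) :
    ∃ g : Vars m → R, (∀ v, algebraMap R (IsLocalRing.ResidueField R) (g v) = g₀ v) ∧
      ∀ r, eqns (fun i j k => g (.inl (i, j, k))) (fun i => g (.inr (.inl i)))
        (fun i => g (.inr (.inr (.inl i)))) (g (.inr (.inr (.inr ())))) r = 0 := by
  obtain ⟨σ, hσ⟩ := exists_algHom (R := R) g₀ h
  have := smooth_univ (m := m) (R := R)
  have : HenselianRing R (IsLocalRing.maximalIdeal R) := inferInstance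
  obtain ⟨τ, hτ⟩ := S0536.result R (Univ m R) R (IsLocalRing.maximalIdeal R) σ
  refine ⟨fun v => τ (Ideal.Quotient.mk _ (MvPolynomial.X v)), fun v => ?_, eqns_eq_zero τ⟩
  exact (AlgHom.congr_fun hτ _).trans (hσ v)

/-- Algebras with compatible structure constants agree after base change. -/
theorem nonempty_algEquiv_baseChange {R k : Type u} [CommRing R] [CommRing k] [Algebra R k]
    {A A₀ : Type u} [Ring A] [Algebra R A] [Ring A₀] [Algebra k A₀] {m : ℕ}
    (φ : A ≃ₗ[R] (Fin m → R)) (b₀ : Module.Basis (Fin m) k A₀)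
    (c : Fin m → Fin m → Fin m → R) (c₀ : Fin m → Fin m → Fin m → k)
    (hmul : ∀ x y, φ (x * y) = mult c (φ x) (φ y))
    (hc : ∀ i j l, algebraMap R k (c i j l) = c₀ i j l)
    (hmul₀ : ∀ x y, b₀.equivFun (x * y) = mult c₀ (b₀.equivFun x) (b₀.equivFun y))
    (hone : algebraMap R k ∘ φ 1 = b₀.equivFun 1) :
    Nonempty ((k ⊗[R] A) ≃ₐ[k] A₀) := by
  classical
  letI : Algebra R A₀ := Algebra.compHom A₀ (algebraMap R k)
  haveI : IsScalarTower R k A₀ := IsScalarTower.of_algebraMap_eq fun _ => rfl
  let L : A →ₗ[R] A₀ :=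
    { toFun := fun a => b₀.equivFun.symm (algebraMap R k ∘ φ a)
      map_add' := fun x y => by
        rw [← map_add b₀.equivFun.symm, map_add φ]
        congr 1
        funext i
        simp
      map_smul' := fun r x => by
        rw [RingHom.id_apply, ← IsScalarTower.algebraMap_smul k r (b₀.equivFun.symm _),
          ← map_smul b₀.equivFun.symm, map_smul φ]
        congr 1
        funext i
        simp }
  have hc₀ : (fun i j l => algebraMap R k (c i j l)) = c₀ :=
    funext fun i => funext fun j => funext fun l => hc i j l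
  let α : A →ₐ[R] A₀ := AlgHom.ofLinearMap L (by
      apply b₀.equivFun.injective
      show b₀.equivFun (b₀.equivFun.symm (algebraMap R k ∘ φ 1)) = _
      rw [LinearEquiv.apply_symm_apply, hone])
    (fun x y => by
      apply b₀.equivFun.injective
      rw [hmul₀]
      show b₀.equivFun (b₀.equivFun.symm (algebraMap R k ∘ φ (x * y))) =
        mult c₀ (b₀.equivFun (b₀.equivFun.symm (algebraMap R k ∘ φ x)))
          (b₀.equivFun (b₀.equivFun.symm (algebraMap R k ∘ φ y)))
      rw [LinearEquiv.apply_symm_apply, LinearEquiv.apply_symm_apply, LinearEquiv.apply_symm_apply,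
        hmul, map_mult, hc₀])
  let β : k ⊗[R] A →ₐ[k] A₀ :=
    Algebra.TensorProduct.lift (Algebra.ofId k A₀) α fun a _ => Algebra.commutes a _
  let bA : Module.Basis (Fin m) R A := Module.Basis.ofEquivFun φ
  let bk := Algebra.TensorProduct.basis k bA
  have hβ : β.toLinearMap = (bk.equiv b₀ (Equiv.refl _)).toLinearMap := by
    refine bk.ext fun i => ?_
    rw [LinearEquiv.coe_coe, Module.Basis.equiv_apply, AlgHom.toLinearMap_apply]
    simp only [bk, Algebra.TensorProduct.basis_apply, β, Algebra.TensorProduct.lift_tmul, map_one,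
      one_mul, Equiv.refl_apply]
    apply b₀.equivFun.injective
    show b₀.equivFun (b₀.equivFun.symm (algebraMap R k ∘ φ (bA i))) = _
    rw [LinearEquiv.apply_symm_apply]
    funext j
    rw [Module.Basis.equivFun_self]
    simp [bA, Module.Basis.coe_ofEquivFun, Pi.single_apply, apply_ite (algebraMap R k), eq_comm]
  have hbij : Function.Bijective β := by
    have : ⇑β = ⇑(bk.equiv b₀ (Equiv.refl _)) := funext fun z => LinearMap.congr_fun hβ z
    rw [this]
    exact LinearEquiv.bijective _
  exact ⟨AlgEquiv.ofBijective β hbij⟩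


/-- Solutions of the structure equations lift from the residue field (unbundled form). -/
theorem exists_lift_eqns (R : Type u) [CommRing R] [HenselianLocalRing R] {m : ℕ}
    (c₀ : Fin m → Fin m → Fin m → IsLocalRing.ResidueField R)
    (e₀ f₀ : Fin m → IsLocalRing.ResidueField R) (w₀ : IsLocalRing.ResidueField R)
    (h : ∀ r, eqns c₀ e₀ f₀ w₀ r = 0) :
    ∃ (c : Fin m → Fin m → Fin m → R) (e f : Fin m → R) (w : R),
      (∀ i j l, algebraMap R (IsLocalRing.ResidueField R) (c i j l) = c₀ i j l) ∧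
      (∀ i, algebraMap R (IsLocalRing.ResidueField R) (e i) = e₀ i) ∧
      ∀ r, eqns c e f w r = 0 := by
  obtain ⟨g, hg, hgeq⟩ := exists_lift_data R
    (Sum.elim (fun ijk : Fin m × Fin m × Fin m => c₀ ijk.1 ijk.2.1 ijk.2.2)
      (Sum.elim e₀ (Sum.elim f₀ fun _ => w₀))) h
  exact ⟨_, _, _, _, fun i j l => hg (.inl (i, j, l)), fun i => hg (.inr (.inl i)), hgeq⟩

theorem exists_azumaya_lift_of_basis (R : Type u) [CommRing R] [HenselianLocalRing R] {A₀ : Type u}
    [Ring A₀] [Algebra (IsLocalRing.ResidueField R) A₀] [Nontrivial A₀] {m : ℕ}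
    (b₀ : Module.Basis (Fin m) (IsLocalRing.ResidueField R) A₀)
    (hbij : Function.Bijective (AlgHom.mulLeftRight (IsLocalRing.ResidueField R) A₀)) :
    ∃ (A : Type u) (_ : Ring A) (_ : Algebra R A), IsAzumaya R A ∧
      Nonempty ((IsLocalRing.ResidueField R ⊗[R] A) ≃ₐ[IsLocalRing.ResidueField R] A₀) := by
  obtain ⟨c₀, f₀, w₀, hmul₀, heq₀⟩ := exists_structure b₀ hbij
  obtain ⟨c, e, f, w, hc, he, heq⟩ := exists_lift_eqns R c₀ _ f₀ w₀ heq₀
  obtain ⟨A, _, _, φ, hA, hone, hmul⟩ := exists_algebra c e f w heq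
  refine ⟨A, inferInstance, inferInstance, hA, nonempty_algEquiv_baseChange φ b₀ c c₀ hmul hc hmul₀ ?_⟩
  rw [hone]
  exact funext he

theorem exists_azumaya_lift (R : Type u) [CommRing R] [HenselianLocalRing R] (A₀ : Type u) [Ring A₀]
    [Algebra (IsLocalRing.ResidueField R) A₀] [Algebra.IsCentral (IsLocalRing.ResidueField R) A₀]
    [IsSimpleRing A₀] [FiniteDimensional (IsLocalRing.ResidueField R) A₀] :
    ∃ (A : Type u) (_ : Ring A) (_ : Algebra R A), IsAzumaya R A ∧
      Nonempty ((IsLocalRing.ResidueField R ⊗[R] A) ≃ₐ[IsLocalRing.ResidueField R] A₀) :=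
  exists_azumaya_lift_of_basis R (Module.finBasis (IsLocalRing.ResidueField R) A₀)
    (GrothLib.CSA.mulLeftRight_bijective (IsLocalRing.ResidueField R) A₀)

end Groth.Agent.AzLift21
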